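import Cfsg.Agent.Spor.J2.Orders

/-!
Extensions of sums of copies of the six-dimensional module of `A₈` with the element orders of `J₂`.
-/

set_option autoImplicit false
set_option linter.style.haveILetI false
set_option maxRecDepth 100000
set_option maxHeartbeats 1000000

namespace Cfsg.Lib.SpecHJ

open Equiv Cfsg.Lib.J2

/-- differences of values -/
def delta : (Fin 8 → ZMod 2) →+ (Fin 8 → Fin 8 → ZMod 2) where
  toFun f a b := f a + f b
  map_zero' := by funext a b; simp
  map_add' f g := by funext a b; simp; abel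

/-- functions of even weight -/
def evenSub : AddSubgroup (Fin 8 → ZMod 2) where
  carrier := {f | ∑ i, f i = 0}
  zero_mem' := by simp
  add_mem' {f g} hf hg := by simp [Set.mem_setOf_eq, Finset.sum_add_distrib] at *; simp [hf, hg]
  neg_mem' {f} hf := by simp [Set.mem_setOf_eq] at *; simp [hf]

/-- the six-dimensional module -/
def heart : AddSubgroup (Fin 8 → Fin 8 → ZMod 2) := evenSub.map delta

theorem heart_comp {h : Fin 8 → Fin 8 → ZMod 2} (hh : h ∈ heart) (σ : Perm (Fin 8)) :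
    (fun a b => h (σ a) (σ b)) ∈ heart := by
  obtain ⟨f, hf, rfl⟩ := hh
  exact ⟨f ∘ σ, (Equiv.sum_comp σ f).trans hf, rfl⟩

/-- action on the sum of copies -/
def act (k : ℕ) : ↥(alternatingGroup (Fin 8)) →* MulAut (Multiplicative (Fin k → ↥heart)) where
  toFun g := AddEquiv.toMultiplicative
    { toFun := fun v i => ⟨fun a b => (v i).1 ((g : Perm (Fin 8))⁻¹ a) ((g : Perm (Fin 8))⁻¹ b), heart_comp (v i).2 _⟩
      invFun := fun v i => ⟨fun a b => (v i).1 ((g : Perm (Fin 8)) a) ((g : Perm (Fin 8)) b), heart_comp (v i).2 _⟩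
      left_inv := fun v => by funext i; exact Subtype.ext (by funext a b; simp)
      right_inv := fun v => by funext i; exact Subtype.ext (by funext a b; simp)
      map_add' := fun v w => by funext i; exact Subtype.ext (by funext a b; rfl) }
  map_one' := by
    refine MulEquiv.ext fun v => ?_
    exact Multiplicative.toAdd.injective (funext fun i => Subtype.ext (funext fun a => funext fun b => by simp))
  map_mul' g h := by
    refine MulEquiv.ext fun v => ?_
    exact Multiplicative.toAdd.injective (funext fun i => Subtype.ext (funext fun a => funext fun b => by simp [mul_inv_rev]))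

/-- the extension -/
abbrev Big (k : ℕ) : Type := Multiplicative (Fin k → ↥heart) ⋊[act k] ↥(alternatingGroup (Fin 8))

variable {k : ℕ}

/-- a coordinate -/
def crdv (g : Big k) (i : Fin k) (a b : Fin 8) : ZMod 2 := (Multiplicative.toAdd g.left i).1 a b

theorem crdv_mul (g h : Big k) (i : Fin k) (a b : Fin 8) :
    crdv (g * h) i a b =
      crdv g i a b + crdv h i ((g.right : Perm (Fin 8))⁻¹ a) ((g.right : Perm (Fin 8))⁻¹ b) := rfl

theorem right_pow (g : Big k) (n : ℕ) : (g ^ n).right = g.right ^ n :=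
  map_pow (SemidirectProduct.rightHom : Big k →* ↥(alternatingGroup (Fin 8))) g n

theorem crdv_pow (g : Big k) (i : Fin k) (a b : Fin 8) : ∀ n : ℕ,
    crdv (g ^ n) i a b = ∑ j ∈ Finset.range n,
      crdv g i (((g.right : Perm (Fin 8))⁻¹ ^ j) a) (((g.right : Perm (Fin 8))⁻¹ ^ j) b)
  | 0 => by simp; rfl
  | n + 1 => by
      rw [pow_succ, crdv_mul, crdv_pow g i a b n, right_pow, Finset.sum_range_succ]
      simp [inv_pow]

theorem ext_one {g : Big k} (h1 : g.right = 1) (h2 : ∀ i a b, crdv g i a b = 0) : g = 1 := by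
  refine SemidirectProduct.ext ?_ h1
  exact Multiplicative.toAdd.injective (funext fun i => Subtype.ext (funext fun a => funext fun b => h2 i a b))

theorem sq_one {g : Big k} (h1 : g.right = 1) : g ^ 2 = 1 := by
  refine ext_one (by rw [right_pow, h1, one_pow]) fun i a b => ?_
  rw [crdv_pow, Finset.sum_range_succ, Finset.sum_range_one, h1]
  simpa using CharTwo.add_self_eq_zero (crdv g i a b)

/-- the orbit sums of a permutation kill the module -/
def Killed (n : ℕ) (τ : Perm (Fin 8)) : Prop :=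
  ∀ a b c : Fin 8, (∑ j ∈ Finset.range n,
      ((if (τ ^ j) a = c then 1 else 0) + (if (τ ^ j) b = c then 1 else 0)) : ZMod 2) =
    ∑ j ∈ Finset.range n, ((if (τ ^ j) a = 0 then 1 else 0) + (if (τ ^ j) b = 0 then 1 else 0))

theorem killed_conj {n : ℕ} {τ : Perm (Fin 8)} (h : Killed n τ) (π : Perm (Fin 8)) :
    Killed n (π * τ * π⁻¹) := by
  have hp : ∀ j : ℕ, (π * τ * π⁻¹) ^ j = π * τ ^ j * π⁻¹ := fun j => (conj_pow).trans rfl
  have key : ∀ j (a c : Fin 8), ((π * τ * π⁻¹) ^ j) a = c ↔ (τ ^ j) (π⁻¹ a) = π⁻¹ c := by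
    intro j a c
    rw [hp, Perm.mul_apply, Perm.mul_apply]
    constructor
    · intro e; rw [← e]; simp
    · intro e; rw [e]; simp
  intro a b c
  simp only [key]
  exact (h _ _ (π⁻¹ c)).trans (h _ _ (π⁻¹ 0)).symm

theorem killed_reps : Killed 7 ([0, 1, 2, 3, 4, 5, 6] : List (Fin 8)).formPerm ∧
    Killed 15 (([0, 1, 2, 3, 4] : List (Fin 8)).formPerm * ([5, 6, 7] : List (Fin 8)).formPerm) ∧
    ([0, 1, 2, 3, 4, 5, 6] : List (Fin 8)).formPerm.cycleType = {7} ∧
    (([0, 1, 2, 3, 4] : List (Fin 8)).formPerm * ([5, 6, 7] : List (Fin 8)).formPerm).cycleType = {5, 3} := by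
  refine ⟨by unfold Killed; decide +kernel, by unfold Killed; decide +kernel, by decide +kernel, by decide +kernel⟩

theorem killed_sum {n : ℕ} {τ : Perm (Fin 8)} (h : Killed n τ) {v : Fin 8 → Fin 8 → ZMod 2} (hv : v ∈ heart)
    (a b : Fin 8) : ∑ j ∈ Finset.range n, v ((τ ^ j) a) ((τ ^ j) b) = 0 := by
  obtain ⟨f, hf, rfl⟩ := hv
  have e : ∀ x, f x = ∑ c, (if x = c then 1 else 0) * f c := fun x => by simp
  calc ∑ j ∈ Finset.range n, delta f ((τ ^ j) a) ((τ ^ j) b)
      = ∑ j ∈ Finset.range n, ∑ c, ((if (τ ^ j) a = c then 1 else 0) + (if (τ ^ j) b = c then 1 else 0)) * f c := by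
        refine Finset.sum_congr rfl fun j _ => ?_
        show f _ + f _ = _
        rw [e ((τ ^ j) a), e ((τ ^ j) b), ← Finset.sum_add_distrib]
        simp only [add_mul]
    _ = ∑ c, (∑ j ∈ Finset.range n, ((if (τ ^ j) a = 0 then 1 else 0) + (if (τ ^ j) b = 0 then 1 else 0))) * f c := by
        rw [Finset.sum_comm]
        refine Finset.sum_congr rfl fun c _ => ?_
        rw [← h a b c, Finset.sum_mul]
    _ = 0 := by rw [← Finset.mul_sum, show ∑ c, f c = 0 from hf, mul_zero]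

theorem eight_even : ∀ l ∈ Cfsg.Lib.SpecA10.gen 4 8 8, (l.sum + l.length) % 2 = 0 →
    l.foldr Nat.lcm 1 ∈ [1, 2, 3, 4, 5, 6] ∨ l = [7] ∨ l = [5, 3] := by decide +kernel

theorem alt8_cases (g : alternatingGroup (Fin 8)) :
    orderOf g ∈ [1, 2, 3, 4, 5, 6] ∨ (orderOf g = 7 ∧ Killed 7 ((g : Perm (Fin 8))⁻¹)) ∨
      (orderOf g = 15 ∧ Killed 15 ((g : Perm (Fin 8))⁻¹)) := by
  set σ : Perm (Fin 8) := (g : Perm (Fin 8)) with hσ
  have hsgn : Perm.sign σ = 1 := g.2
  rw [Perm.sign_of_cycleType] at hsgn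
  have he : Even (σ.cycleType.sum + σ.cycleType.card) := by
    by_contra ho
    rw [(Nat.not_even_iff_odd.1 ho).neg_one_pow] at hsgn
    exact absurd hsgn (by decide)
  have hle := σ.support.card_le_univ
  rw [Fintype.card_fin, ← Perm.sum_cycleType] at hle
  set l := σ.cycleType.sort (fun a b => b ≤ a) with hl
  have hcoe : (l : Multiset ℕ) = σ.cycleType := σ.cycleType.sort_eq _
  rw [← hcoe] at he hle
  rw [Multiset.sum_coe] at he hle
  rw [Multiset.coe_card] at he
  have hmem : ∀ x ∈ l, 2 ≤ x ∧ x ≤ 8 := fun x hx =>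
    ⟨Perm.two_le_of_mem_cycleType (hcoe ▸ (Multiset.mem_coe.2 hx)), le_trans (List.le_sum_of_mem hx) hle⟩
  have hlen : l.length ≤ 4 := by
    have := List.card_nsmul_le_sum l 2 fun x hx => (hmem x hx).1
    simp at this
    omega
  have hord : orderOf g = l.foldr Nat.lcm 1 := by
    rw [← Subgroup.orderOf_coe g, ← hσ, ← Perm.lcm_cycleType, ← hcoe, Cfsg.Lib.SpecA10.lcm_coe_list]
  obtain ⟨k7, k15, t7, t15⟩ := killed_reps
  have conjK : ∀ (n : ℕ) (ρ : Perm (Fin 8)), Killed n ρ → ρ.cycleType = σ.cycleType → Killed n σ⁻¹ := by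
    intro n ρ hρ ht
    obtain ⟨π, hπ⟩ := isConj_iff.1 (Perm.isConj_iff_cycleType_eq.2 (ht.trans (Perm.cycleType_inv σ).symm))
    exact hπ ▸ killed_conj hρ π
  rcases eight_even l (Cfsg.Lib.SpecA10.mem_gen l 4 8 8 hmem (Multiset.pairwise_sort _ _) hle hlen)
    (Nat.even_iff.1 he) with h | h | h
  · exact Or.inl (hord ▸ h)
  · refine Or.inr (Or.inl ⟨by rw [hord, h]; decide, conjK 7 _ k7 ?_⟩)
    rw [t7, ← hcoe, h]; rfl
  · refine Or.inr (Or.inr ⟨by rw [hord, h]; decide, conjK 15 _ k15 ?_⟩)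
    rw [t15, ← hcoe, h]; rfl

theorem big_pow (g : Big k) : ∃ d ∈ maxJ2, g ^ d = 1 := by
  rcases alt8_cases g.right with h | ⟨h, hk⟩ | ⟨h, hk⟩
  · have h2 : g ^ (orderOf g.right * 2) = 1 := by
      rw [pow_mul]; exact sq_one (by rw [right_pow, pow_orderOf_eq_one])
    obtain ⟨d, hd, c, rfl⟩ := (by decide : ∀ i ∈ [1, 2, 3, 4, 5, 6], ∃ d ∈ maxJ2, i * 2 ∣ d) _ h
    exact ⟨_, hd, by rw [pow_mul, h2, one_pow]⟩
  all_goals
    refine ⟨orderOf g.right, by rw [h]; decide, ext_one (by rw [right_pow, pow_orderOf_eq_one]) fun i a b => ?_⟩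
    rw [crdv_pow, h]
    exact killed_sum hk (Multiplicative.toAdd g.left i).2 a b

theorem pair_even : ∀ p q : Fin 8, p ≠ q → (∑ x : Fin 8, (if x = p ∨ x = q then 1 else 0 : ZMod 2)) = 0 := by
  decide +kernel

/-- a module element from two points -/
def vec2 (p q : Fin 8) (hpq : p ≠ q) : ↥heart :=
  ⟨delta (fun x => if x = p ∨ x = q then 1 else 0), ⟨_, pair_even p q hpq, rfl⟩⟩

/-- an element of the extension -/
def mkBig (k : ℕ) (v : ↥heart) (g : ↥(alternatingGroup (Fin 8))) : Big (k + 1) :=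
  ⟨Multiplicative.ofAdd (fun i => if i = 0 then v else 0), g⟩

theorem mk_order {k m : ℕ} (v : ↥heart) (g : ↥(alternatingGroup (Fin 8))) (hg : orderOf g = m) (a b : Fin 8)
    (hv : ∑ j ∈ Finset.range m, (v : Fin 8 → Fin 8 → ZMod 2) (((g : Perm (Fin 8))⁻¹ ^ j) a) (((g : Perm (Fin 8))⁻¹ ^ j) b) ≠ 0) :
    orderOf (mkBig k v g) = m * 2 := by
  haveI : Fact (Nat.Prime 2) := ⟨Nat.prime_two⟩
  have hpow : (mkBig k v g) ^ m ≠ 1 := fun h => hv (by
    have h' : crdv ((mkBig k v g) ^ m) 0 a b = 0 := by rw [h]; rfl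
    rw [crdv_pow] at h'
    simpa [crdv, mkBig] using h')
  have h2 : (mkBig k v g) ^ (m * 2) = 1 := by
    rw [pow_mul]; exact sq_one (by rw [right_pow, show (mkBig k v g).right = g from rfl, ← hg, pow_orderOf_eq_one])
  have hdm : m ∣ orderOf (mkBig k v g) := hg ▸ orderOf_map_dvd (SemidirectProduct.rightHom : Big (k+1) →* _) (mkBig k v g)
  obtain ⟨c, hc⟩ := hdm
  have hcd : m * c ∣ m * 2 := hc ▸ orderOf_dvd_of_pow_eq_one h2
  have hm : 0 < m := hg ▸ orderOf_pos g
  rcases (Nat.dvd_prime Nat.prime_two).1 (Nat.dvd_of_mul_dvd_mul_left hm hcd) with rfl | rfl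
  · exact absurd (by rw [← mul_one m, ← hc, pow_orderOf_eq_one]) hpow
  · exact hc

theorem big_wit (k : ℕ) : ∀ d ∈ maxJ2, ∃ g : Big (k + 1), orderOf g = d := by
  have ord : ∀ (σ : Perm (Fin 8)) (hs : Perm.sign σ = 1) (m : ℕ), 0 < m →
      (σ ^ m = 1 ∧ ∀ j, j < m → 0 < j → σ ^ j ≠ 1) →
      orderOf (⟨σ, hs⟩ : ↥(alternatingGroup (Fin 8))) = m := fun σ hs m hm h => by
    rw [← Subgroup.orderOf_coe]; exact (orderOf_eq_iff hm).2 h
  intro d hd
  simp only [maxJ2, List.mem_cons, List.not_mem_nil, or_false] at hd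
  have inr : ∀ g : ↥(alternatingGroup (Fin 8)), orderOf (SemidirectProduct.inr g : Big (k + 1)) = orderOf g :=
    fun g => orderOf_injective _ SemidirectProduct.inr_injective g
  rcases hd with rfl | rfl | rfl | rfl | rfl
  · exact ⟨_, (inr _).trans (ord ([0, 1, 2, 3, 4, 5, 6] : List (Fin 8)).formPerm (by decide +kernel) 7 (by norm_num) (by decide +kernel))⟩
  · exact ⟨_, mk_order (m := 4) (vec2 0 6 (by decide)) _
      (ord (([0, 1, 2, 3] : List (Fin 8)).formPerm * ([4, 5] : List (Fin 8)).formPerm) (by decide +kernel) 4 (by norm_num) (by decide +kernel))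
      0 6 (by decide +kernel)⟩
  · exact ⟨_, mk_order (m := 5) (vec2 0 5 (by decide)) _
      (ord ([0, 1, 2, 3, 4] : List (Fin 8)).formPerm (by decide +kernel) 5 (by norm_num) (by decide +kernel))
      0 6 (by decide +kernel)⟩
  · exact ⟨_, mk_order (m := 6) (vec2 3 7 (by decide)) _
      (ord (([0, 1, 2] : List (Fin 8)).formPerm * ([3, 4] : List (Fin 8)).formPerm * ([5, 6] : List (Fin 8)).formPerm) (by decide +kernel) 6 (by norm_num) (by decide +kernel))
      3 7 (by decide +kernel)⟩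
  · exact ⟨_, (inr _).trans (ord (([0, 1, 2, 3, 4] : List (Fin 8)).formPerm * ([5, 6, 7] : List (Fin 8)).formPerm) (by decide +kernel) 15 (by norm_num) (by decide +kernel))⟩

theorem main (N : ℕ) : ∃ (H : Type) (_ : Group H) (_ : Fintype H), N < Fintype.card H ∧
    Set.range (orderOf : H → ℕ) = Set.range (orderOf : Cfsg.Spor.J2 → ℕ) := by
  haveI : Finite (Big (N + 1)) := Finite.of_equiv _ SemidirectProduct.equivProd.symm
  refine ⟨Big (N + 1), inferInstance, Fintype.ofFinite _, ?_, ?_⟩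
  · rw [← @Nat.card_eq_fintype_card (Big (N + 1)) (Fintype.ofFinite _), Nat.card_congr SemidirectProduct.equivProd, Nat.card_prod]
    have h2 : 2 ≤ Nat.card ↥heart := by
      haveI : Nontrivial ↥heart := ⟨vec2 0 1 (by decide), 0, fun h => by
        have := congrFun (congrFun (congrArg Subtype.val h) 0) 2
        exact absurd this (by decide +kernel)⟩
      exact Finite.one_lt_card
    have h1 : 2 ^ (N + 1) ≤ Nat.card (Multiplicative (Fin (N + 1) → ↥heart)) := by
      rw [show Nat.card (Multiplicative (Fin (N + 1) → ↥heart)) = Nat.card (Fin (N + 1) → ↥heart) from rfl,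
        Nat.card_fun, Nat.card_fin]
      exact Nat.pow_le_pow_left h2 _
    calc N < 2 ^ N := Nat.lt_two_pow_self
      _ ≤ 2 ^ (N + 1) := Nat.pow_le_pow_right (by norm_num) (by omega)
      _ ≤ _ := h1.trans (Nat.le_mul_of_pos_right _ Nat.card_pos)
  · exact (Cfsg.Lib.SpecA10.range_orderOf maxJ2 big_pow (big_wit N) (by decide)).trans j2_spectrum.symm

end Cfsg.Lib.SpecHJ
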